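import Groth.Agent.PSLoc.Basic
import Mathlib.RingTheory.MvPowerSeries.Derivative
import Mathlib.LinearAlgebra.Basis.VectorSpace
import Mathlib.Algebra.DualNumber

/-!
# First and second order directional derivatives at the origin of formal power series
-/

set_option autoImplicit false

universe u

open MvPowerSeries

namespace Groth.Agent.JacNode

variable {k : Type u} [Field k] {n : ℕ}

/-- The first derivative at the origin in the direction `v`. -/
noncomputable def d1 (v : Fin n → k) : MvPowerSeries (Fin n) k →ₗ[k] k where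
  toFun g := ∑ i, v i * constantCoeff (pderiv k i g)
  map_add' a b := by simp [mul_add, Finset.sum_add_distrib]
  map_smul' c a := by
    rw [RingHom.id_apply, smul_eq_mul, Finset.mul_sum]
    refine Finset.sum_congr rfl fun i _ => ?_
    rw [Derivation.map_smul, smul_eq_C_mul, map_mul, constantCoeff_C]
    ring

/-- The second derivative at the origin in the directions `v`, `w`. -/
noncomputable def d2 (v w : Fin n → k) : MvPowerSeries (Fin n) k →ₗ[k] k where
  toFun g := ∑ i, w i * d1 v (pderiv k i g)
  map_add' a b := by simp [mul_add, Finset.sum_add_distrib]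
  map_smul' c a := by
    simp only [Derivation.map_smul, map_smul, RingHom.id_apply, smul_eq_mul, Finset.mul_sum]
    exact Finset.sum_congr rfl fun i _ => by ring

variable {v w : Fin n → k} {a b : MvPowerSeries (Fin n) k}

theorem d1_apply : d1 v a = ∑ i, v i * constantCoeff (pderiv k i a) := rfl
theorem d2_apply : d2 v w a = ∑ i, w i * d1 v (pderiv k i a) := rfl

theorem d1_mul : d1 v (a * b) = constantCoeff a * d1 v b + constantCoeff b * d1 v a := by
  simp only [d1_apply, Derivation.leibniz, smul_eq_mul, map_add, map_mul, Finset.mul_sum,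
    ← Finset.sum_add_distrib]
  exact Finset.sum_congr rfl fun i _ => by ring

theorem d2_mul : d2 v w (a * b) =
    constantCoeff a * d2 v w b + constantCoeff b * d2 v w a + d1 v a * d1 w b + d1 w a * d1 v b := by
  have h : d2 v w (a * b) = ∑ i, w i * (constantCoeff a * d1 v (pderiv k i b) +
      constantCoeff (pderiv k i b) * d1 v a + (constantCoeff b * d1 v (pderiv k i a) +
      constantCoeff (pderiv k i a) * d1 v b)) := by
    rw [d2_apply]
    refine Finset.sum_congr rfl fun i _ => ?_
    rw [Derivation.leibniz, smul_eq_mul, smul_eq_mul]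
    rw [map_add (d1 v), d1_mul, d1_mul]
  rw [h, d2_apply, d2_apply, d1_apply (v := w), d1_apply (v := w)]
  simp only [Finset.mul_sum, Finset.sum_mul, ← Finset.sum_add_distrib]
  exact Finset.sum_congr rfl fun i _ => by ring

theorem d1_X (i : Fin n) : d1 v (X i) = v i := by
  classical
  simp [d1_apply, pderiv_X, Pi.single_apply, apply_ite (constantCoeff (σ := Fin n) (R := k))]

theorem d1_C (c : k) : d1 v (C c) = 0 := by simp [d1_apply]

theorem d2_C (c : k) : d2 v w (C c) = 0 := by simp [d2_apply]

theorem d1_C_mul (c : k) : d1 v (C c * a) = c * d1 v a := by simp [d1_mul, d1_C]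

theorem d2_C_mul (c : k) : d2 v w (C c * a) = c * d2 v w a := by simp [d2_mul, d1_C, d2_C]

theorem d2_mul_comm_dir : d2 v w (a * b) = d2 v w (b * a) := by rw [mul_comm]

/-- Evaluation at `ε v` as a ring map to the dual numbers. -/
noncomputable def atEps (v : Fin n → k) : MvPowerSeries (Fin n) k →+* DualNumber k where
  toFun g := TrivSqZeroExt.inl (constantCoeff g) + TrivSqZeroExt.inr (d1 v g)
  map_one' := by
    rw [← map_one (C (σ := Fin n) (R := k)), d1_C, constantCoeff_C]
    simp
  map_mul' x y := by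
    refine TrivSqZeroExt.ext ?_ ?_
    · simp
    · simp [d1_mul]
      ring
  map_zero' := by simp
  map_add' x y := by
    refine TrivSqZeroExt.ext ?_ ?_ <;> simp

theorem fst_atEps (v : Fin n → k) (g : MvPowerSeries (Fin n) k) :
    TrivSqZeroExt.fst (atEps v g) = constantCoeff g := by simp [atEps]

theorem snd_atEps (v : Fin n → k) (g : MvPowerSeries (Fin n) k) :
    TrivSqZeroExt.snd (atEps v g) = d1 v g := by simp [atEps]

theorem mem_maximalIdeal_iff {g : MvPowerSeries (Fin n) k} :
    g ∈ IsLocalRing.maximalIdeal (MvPowerSeries (Fin n) k) ↔ constantCoeff g = 0 := by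
  rw [IsLocalRing.mem_maximalIdeal, mem_nonunits_iff, isUnit_iff_constantCoeff, isUnit_iff_ne_zero, not_not]

theorem exists_eq_sum_X {g : MvPowerSeries (Fin n) k} (hg : constantCoeff g = 0) :
    ∃ c : Fin n → MvPowerSeries (Fin n) k, g = ∑ i, X i * c i := by
  have h := mem_maximalIdeal_iff.mpr hg
  rw [PSLoc.maximalIdeal_eq, Ideal.mem_span_range_iff_exists_fun] at h
  obtain ⟨c, hc⟩ := h
  exact ⟨c, hc.symm.trans (Finset.sum_congr rfl fun i _ => mul_comm _ _)⟩

local notation "𝔪" => IsLocalRing.maximalIdeal (MvPowerSeries (Fin n) k)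

theorem X_mem (i : Fin n) : (X i : MvPowerSeries (Fin n) k) ∈ 𝔪 := mem_maximalIdeal_iff.mpr (constantCoeff_X i)

theorem mem_sq {g : MvPowerSeries (Fin n) k} (hg : constantCoeff g = 0) (h : ∀ v, d1 v g = 0) :
    g ∈ 𝔪 ^ 2 := by
  classical
  obtain ⟨c, rfl⟩ := exists_eq_sum_X hg
  refine sum_mem fun i _ => ?_
  rw [pow_two]
  refine Ideal.mul_mem_mul (X_mem i) (mem_maximalIdeal_iff.mpr ?_)
  have h2 := h (Pi.single i 1)
  simpa [map_sum, d1_mul, d1_X, Pi.single_apply] using h2

theorem of_mem_sq {g : MvPowerSeries (Fin n) k} (hg : g ∈ 𝔪 ^ 2) :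
    constantCoeff g = 0 ∧ ∀ v, d1 v g = 0 := by
  rw [pow_two] at hg
  induction hg using Submodule.mul_induction_on' with
  | mem_mul_mem a ha b hb =>
    rw [mem_maximalIdeal_iff] at ha hb
    exact ⟨by simp [ha], fun v => by simp [d1_mul, ha, hb]⟩
  | add x _ y _ hx hy => exact ⟨by simp [hx.1, hy.1], fun v => by simp [hx.2, hy.2]⟩

theorem d2_eq_zero_of_mem_cube {g : MvPowerSeries (Fin n) k} (hg : g ∈ 𝔪 ^ 3) : d2 v w g = 0 := by
  rw [pow_succ] at hg
  induction hg using Submodule.mul_induction_on' with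
  | mem_mul_mem a ha b hb =>
    rw [mem_maximalIdeal_iff] at hb
    obtain ⟨h0, h1⟩ := of_mem_sq ha
    simp [d2_mul, h0, hb, h1]
  | add x _ y _ hx hy => simp [hx, hy]

/-- The image in `kⁿ` of the linear parts. -/
noncomputable def lin : MvPowerSeries (Fin n) k →ₗ[k] (Fin n → k) :=
  LinearMap.pi fun i => d1 (Pi.single i 1)

theorem sum_mul_lin (v : Fin n → k) (g : MvPowerSeries (Fin n) k) : ∑ i, v i * lin g i = d1 v g := by
  classical
  simp [lin, d1_apply, Pi.single_apply]

/-- An element whose linear part is killed by every direction killing an ideal lies in it modulo `m²`. -/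
theorem mem_sup_sq {T : Ideal (MvPowerSeries (Fin n) k)} (hT : T ≤ 𝔪) {e : MvPowerSeries (Fin n) k}
    (he : e ∈ 𝔪) (h : ∀ v, (∀ t ∈ T, d1 v t = 0) → d1 v e = 0) : e ∈ T ⊔ 𝔪 ^ 2 := by
  classical
  let W := (T.restrictScalars k).map (lin (n := n) (k := k))
  have hW : lin e ∈ W := by
    by_contra hne
    obtain ⟨φ, hφ, hker⟩ := Submodule.exists_le_ker_of_notMem hne
    let v : Fin n → k := fun i => φ (Pi.single i 1)
    have hφv : ∀ g, φ (lin g) = d1 v g := by
      intro g
      rw [← sum_mul_lin v g, φ.pi_apply_eq_sum_univ (lin g)]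
      refine Finset.sum_congr rfl fun i _ => ?_
      rw [smul_eq_mul, mul_comm]
      congr 1
      simp only [v]
      congr 1
      funext j
      simp [Pi.single_apply, eq_comm]
    refine hφ ((hφv e).trans (h v fun t ht => ?_))
    rw [← hφv]
    exact hker ⟨t, ht, rfl⟩
  obtain ⟨t, ht, hte⟩ := hW
  have h2 : e - t ∈ 𝔪 ^ 2 := mem_sq
    (by simp [mem_maximalIdeal_iff.mp he, mem_maximalIdeal_iff.mp (hT ht)]) fun v => by
      rw [map_sub, ← sum_mul_lin v e, ← sum_mul_lin v t, hte, sub_self]
  have := Submodule.add_mem_sup (R := MvPowerSeries (Fin n) k) ht h2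
  rwa [add_sub_cancel] at this

/-- An ideal killed by no direction contains the maximal ideal. -/
theorem eq_maximalIdeal {T : Ideal (MvPowerSeries (Fin n) k)} (hT : T ≤ 𝔪)
    (h : ∀ v, (∀ t ∈ T, d1 v t = 0) → v = 0) : T = 𝔪 := by
  refine le_antisymm hT (Submodule.le_of_le_smul_of_le_jacobson_bot (IsNoetherian.noetherian _)
    (IsLocalRing.maximalIdeal_le_jacobson _) ?_)
  rw [smul_eq_mul, ← pow_two]
  exact fun e he => mem_sup_sq hT he fun v hv => by rw [h v hv, d1_apply]; simp

end Groth.Agent.JacNode
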