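import Groth.Agent.JacNode.Minors
import Groth.Agent.JacNode.Deriv
import Mathlib.LinearAlgebra.Matrix.ToLin
import Mathlib.LinearAlgebra.FiniteDimensional.Lemmas

/-!
# The Jacobian criterion for a node in terms of the second order data at the origin
-/

set_option autoImplicit false
set_option linter.unusedSectionVars false

universe u

open MvPowerSeries Matrix Module TrivSqZeroExt

namespace Groth.Agent.JacNode

variable {k : Type u} [Field k] {n m : ℕ} (f : Fin m → MvPowerSeries (Fin n) k)

/-- The Jacobian matrix. -/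
noncomputable def jac : Matrix (Fin m) (Fin n) (MvPowerSeries (Fin n) k) :=
  Matrix.of fun j i => pderiv k i (f j)

/-- The Jacobian at the origin, as a linear map. -/
noncomputable def L0 : (Fin n → k) →ₗ[k] (Fin m → k) :=
  LinearMap.pi fun j => ∑ i, constantCoeff (pderiv k i (f j)) • LinearMap.proj i

theorem L0_apply (v : Fin n → k) (j : Fin m) : L0 f v j = d1 v (f j) := by
  simp [L0, d1_apply, mul_comm]

/-- The common zeros of the linear parts. -/
noncomputable def tan : Submodule k (Fin n → k) := LinearMap.ker (L0 f)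

theorem mem_tan {v : Fin n → k} : v ∈ tan f ↔ ∀ j, d1 v (f j) = 0 := by
  simp [tan, LinearMap.mem_ker, funext_iff, L0_apply]

variable {f}

theorem eps_mul (x : DualNumber k) : DualNumber.eps * x = inr (fst x) := by
  refine TrivSqZeroExt.ext ?_ ?_
  · rw [fst_mul, DualNumber.fst_eps, zero_mul, fst_inr]
  · rw [DualNumber.snd_mul, DualNumber.fst_eps, DualNumber.snd_eps, zero_mul, one_mul, zero_add, snd_inr]

theorem d1_eq_zero_of_mem_tan (hf : ∀ j, constantCoeff (f j) = 0) {v : Fin n → k} (hv : v ∈ tan f)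
    {g : MvPowerSeries (Fin n) k} (hg : g ∈ Ideal.span (Set.range f)) :
    constantCoeff g = 0 ∧ d1 v g = 0 := by
  induction hg using Submodule.span_induction with
  | mem x hx => obtain ⟨j, rfl⟩ := hx; exact ⟨hf j, (mem_tan f).mp hv j⟩
  | zero => simp
  | add x y _ _ hx hy => simp [hx.1, hx.2, hy.1, hy.2]
  | smul a x _ hx => simp [d1_mul, hx.1, hx.2]

section Minor

variable {r : ℕ} (ρ : Fin r → Fin m) (γ : Fin r → Fin n)

/-- Extension by zero along `γ`. -/
noncomputable def ext (γ : Fin r → Fin n) : (Fin r → k) →ₗ[k] (Fin n → k) where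
  toFun z i := ∑ b, if γ b = i then z b else 0
  map_add' a b := by
    funext i
    simp only [Pi.add_apply, ← Finset.sum_add_distrib]
    exact Finset.sum_congr rfl fun _ _ => by split_ifs <;> simp
  map_smul' c a := by
    funext i
    simp [Finset.mul_sum, mul_ite]

theorem d1_ext (z : Fin r → k) (g : MvPowerSeries (Fin n) k) :
    d1 (ext γ z) g = ∑ b, z b * constantCoeff (pderiv k (γ b) g) := by
  simp only [d1_apply, ext, LinearMap.coe_mk, AddHom.coe_mk, Finset.sum_mul, ite_mul, zero_mul]
  rw [Finset.sum_comm]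
  simp

theorem d2_ext (v : Fin n → k) (z : Fin r → k) (g : MvPowerSeries (Fin n) k) :
    d2 v (ext γ z) g = ∑ b, z b * d1 v (pderiv k (γ b) g) := by
  simp only [d2_apply, ext, LinearMap.coe_mk, AddHom.coe_mk, Finset.sum_mul, ite_mul, zero_mul]
  rw [Finset.sum_comm]
  simp

variable (f)

/-- The value of the submatrix at `εv` on constant vectors. -/
theorem atEps_mulVec (v : Fin n → k) (z : Fin r → k) (a : Fin r) :
    (((jac f).submatrix ρ γ).map (atEps v) *ᵥ fun b => inl (z b)) a =
      inl (d1 (ext γ z) (f (ρ a))) + inr (d2 v (ext γ z) (f (ρ a))) := by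
  rw [d1_ext, d2_ext, Matrix.mulVec, dotProduct]
  refine TrivSqZeroExt.ext ?_ ?_
  · simp [fst_sum, jac, fst_atEps, mul_comm]
  · simp [snd_sum, jac, snd_atEps, fst_atEps, mul_comm]

theorem atEps_det (v : Fin n → k) :
    atEps v ((jac f).submatrix ρ γ).det = (((jac f).submatrix ρ γ).map (atEps v)).det :=
  RingHom.map_det (atEps v) ((jac f).submatrix ρ γ)

/-- A kernel vector at the origin kills the minor at the origin. -/
theorem constantCoeff_det_eq_zero {z : Fin r → k} (hz : z ≠ 0) (hker : L0 f (ext γ z) = 0) :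
    constantCoeff ((jac f).submatrix ρ γ).det = 0 := by
  rw [RingHom.map_det]
  obtain ⟨a, ha⟩ := Function.ne_iff.mp hz
  refine det_eq_zero_of_ker _ (c := z) (funext fun b => ?_) (isUnit_iff_ne_zero.mpr ha)
  have h := congrFun hker (ρ b)
  rw [L0_apply, d1_ext, Pi.zero_apply] at h
  rw [Pi.zero_apply]
  refine Eq.trans ?_ h
  simp [Matrix.mulVec, dotProduct, jac, mul_comm]

/-- Two independent kernel vectors kill the minor to first order. -/
theorem d1_det_eq_zero_of_two (h2 : 2 ≤ finrank k (LinearMap.ker (L0 f ∘ₗ ext γ))) (v : Fin n → k) :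
    d1 v ((jac f).submatrix ρ γ).det = 0 := by
  classical
  let K := LinearMap.ker (L0 f ∘ₗ ext γ)
  obtain ⟨c, hc, hc0⟩ := Submodule.exists_mem_ne_zero_of_ne_bot
    (fun hb : K = ⊥ => by rw [show LinearMap.ker (L0 f ∘ₗ ext γ) = ⊥ from hb, finrank_bot] at h2; omega)
  obtain ⟨a, ha⟩ := Function.ne_iff.mp hc0
  obtain ⟨d, hd, hd0⟩ : ∃ d ∈ K ⊓ LinearMap.ker (LinearMap.proj (R := k) (φ := fun _ : Fin r => k) a), d ≠ 0 := by
    refine Submodule.exists_mem_ne_zero_of_ne_bot fun hb => ?_
    have hinj : Function.Injective ((LinearMap.proj (R := k) (φ := fun _ : Fin r => k) a) ∘ₗ K.subtype) := by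
      rw [← LinearMap.ker_eq_bot, eq_bot_iff]
      intro x hx
      have : (x : Fin r → k) ∈ K ⊓ LinearMap.ker (LinearMap.proj (R := k) (φ := fun _ : Fin r => k) a) :=
        ⟨x.2, hx⟩
      rw [hb] at this
      exact Subtype.ext this
    have := LinearMap.finrank_le_finrank_of_injective hinj
    rw [finrank_self] at this
    have h2' : 2 ≤ finrank k K := h2
    omega
  obtain ⟨b, hb⟩ := Function.ne_iff.mp hd0
  have hab : a ≠ b := fun h => hb (h ▸ hd.2)
  have hval : ∀ z ∈ K, ((jac f).submatrix ρ γ).map (atEps v) *ᵥ (fun b => inl (z b)) =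
      (DualNumber.eps : DualNumber k) • fun a => inl (d2 v (ext γ z) (f (ρ a))) := by
    intro z hz
    funext a
    have h1 : d1 (ext γ z) (f (ρ a)) = 0 := (L0_apply f _ _).symm.trans (congrFun hz (ρ a))
    rw [atEps_mulVec, h1, inl_zero, zero_add, Pi.smul_apply, smul_eq_mul, eps_mul, fst_inl]
  have hdet := det_eq_zero_of_two (((jac f).submatrix ρ γ).map (atEps v)) DualNumber.eps_mul_eps hab
    (hval c hc) (hval d hd.1)
    ((isUnit_iff_ne_zero.mpr ha).map (inlHom k k))
    (by simp [show d a = 0 from hd.2])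
    ((isUnit_iff_ne_zero.mpr hb).map (inlHom k k))
  rw [← snd_atEps, atEps_det, hdet, snd_zero]

/-- A first order kernel vector kills the minor to first order. -/
theorem d1_det_eq_zero_of_vec (v : Fin n → k) {z u : Fin r → k} (hz : z ≠ 0)
    (hker : L0 f (ext γ z) = 0) (hu : ∀ j, d1 (ext γ u) (f j) = d2 v (ext γ z) (f j)) :
    d1 v ((jac f).submatrix ρ γ).det = 0 := by
  obtain ⟨a, ha⟩ := Function.ne_iff.mp hz
  have h := det_eq_zero_of_ker (((jac f).submatrix ρ γ).map (atEps v))
    (c := (fun b => inl (z b)) - (DualNumber.eps : DualNumber k) • fun b => inl (u b)) (a := a) ?_ ?_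
  · rw [← snd_atEps, atEps_det, h, snd_zero]
  · funext b
    have h1 : d1 (ext γ z) (f (ρ b)) = 0 := (L0_apply f _ _).symm.trans (congrFun hker (ρ b))
    rw [Matrix.mulVec_sub, Matrix.mulVec_smul, Pi.sub_apply, Pi.smul_apply, atEps_mulVec, atEps_mulVec, h1,
      hu (ρ b), Pi.zero_apply, smul_eq_mul, eps_mul, fst_add, fst_inl, fst_inr, add_zero, inl_zero, zero_add,
      sub_self]
  · rw [TrivSqZeroExt.isUnit_iff_isUnit_fst]
    refine isUnit_iff_ne_zero.mpr ?_
    rw [Pi.sub_apply, Pi.smul_apply, smul_eq_mul, eps_mul, fst_sub, fst_inl, fst_inr, sub_zero]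
    exact ha

end Minor

variable (f)

/-- The ideal of the criterion. -/
noncomputable def crit : Ideal (MvPowerSeries (Fin n) k) := minors (jac f) (n - 1) ⊔ Ideal.span (Set.range f)

/-- Second order nondegeneracy of the ideal on its tangent plane. -/
def SecondOrder : Prop :=
  finrank k (tan f) = 2 ∧ ∀ v ∈ tan f, v ≠ 0 → ∃ g ∈ Ideal.span (Set.range f),
    (∀ w, d1 w g = 0) ∧ ∃ w ∈ tan f, d2 v w g ≠ 0

variable {f}

local notation "𝔪" => IsLocalRing.maximalIdeal (MvPowerSeries (Fin n) k)

theorem finrank_range_add : finrank k (LinearMap.range (L0 f)) + finrank k (tan f) = n := by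
  have := (L0 f).finrank_range_add_finrank_ker
  rw [finrank_fin_fun] at this
  unfold tan
  exact this

theorem crit_of_eq (hf : ∀ j, constantCoeff (f j) = 0) (h : crit f = 𝔪) : SecondOrder f := by
  classical
  have hproper : ∀ d ∈ minors (jac f) (n - 1), constantCoeff d = 0 := fun d hd =>
    mem_maximalIdeal_iff.mp (h ▸ Ideal.mem_sup_left hd)
  -- the rank at the origin is at most `n - 2`
  have hrk : finrank k (LinearMap.range (L0 f)) < n - 1 := by
    by_contra hge
    rw [not_lt] at hge
    let bR := finBasis k (LinearMap.range (L0 f))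
    let e : Fin (n - 1) → Fin m → k := fun a => (bR (Fin.castLE hge a) : Fin m → k)
    have he : LinearIndependent k e :=
      (bR.linearIndependent.map' _ (Submodule.ker_subtype _)).comp _ (Fin.castLE_injective hge)
    have hu : ∀ a, ∃ u, L0 f u = e a := fun a => (bR (Fin.castLE hge a)).2
    choose u hu using hu
    obtain ⟨π, hπ⟩ := LinearMap.exists_leftInverse_of_injective (Fintype.linearCombination k e)
      (LinearMap.ker_eq_bot.mpr he.fintypeLinearCombination_injective)
    let P : Matrix (Fin (n - 1)) (Fin m) (MvPowerSeries (Fin n) k) :=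
      Matrix.of fun a j => C (π (Pi.single j 1) a)
    let Q : Matrix (Fin n) (Fin (n - 1)) (MvPowerSeries (Fin n) k) := Matrix.of fun i a => C (u a i)
    have h0 := hproper _ (det_mul_mem (Fintype.card_fin _) P (jac f) Q)
    rw [RingHom.map_det] at h0
    have hM : (constantCoeff (σ := Fin n) (R := k)).mapMatrix (P * jac f * Q) = 1 := by
      ext a b
      have h1 : π (L0 f (u b)) a = (1 : Matrix (Fin (n - 1)) (Fin (n - 1)) k) a b := by
        have h2 := LinearMap.congr_fun hπ (Pi.single b 1)
        rw [LinearMap.comp_apply, Fintype.linearCombination_apply_single, one_smul, LinearMap.id_apply, ← hu] at h2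
        rw [h2]
        simp [Pi.single_apply, Matrix.one_apply]
      rw [← h1]
      have h3 : π (L0 f (u b)) a = ∑ j, π (Pi.single j 1) a * L0 f (u b) j := by
        conv_lhs => rw [← Finset.univ_sum_single (L0 f (u b)), map_sum, Finset.sum_apply]
        refine Finset.sum_congr rfl fun j _ => ?_
        rw [show Pi.single j (L0 f (u b) j) = L0 f (u b) j • Pi.single (M := fun _ => k) j (1 : k) by
          rw [← Pi.single_smul', smul_eq_mul, mul_one], map_smul, Pi.smul_apply, smul_eq_mul, mul_comm]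
      rw [h3]
      simp only [RingHom.mapMatrix_apply, Matrix.map_apply, Matrix.mul_apply, Finset.sum_mul, map_sum, P, Q,
        jac, Matrix.of_apply, map_mul, constantCoeff_C, L0_apply, d1_apply, Finset.mul_sum]
      rw [Finset.sum_comm]
      exact Finset.sum_congr rfl fun _ _ => Finset.sum_congr rfl fun _ _ => by ring
    rw [hM, det_one] at h0
    exact one_ne_zero h0
  have htan := finrank_range_add (f := f)
  have hsee : ∀ v ∈ tan f, v ≠ 0 → ∃ (ρ : Fin (n - 1) → Fin m) (γ : Fin (n - 1) → Fin n),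
      d1 v ((jac f).submatrix ρ γ).det ≠ 0 := by
    intro v hv hv0
    by_contra hno
    push Not at hno
    obtain ⟨i, hi⟩ := Function.ne_iff.mp hv0
    have hX : (X i : MvPowerSeries (Fin n) k) ∈ crit f := h ▸ X_mem i
    have hle : crit f ≤ RingHom.ker (atEps v) := by
      refine sup_le (Ideal.span_le.mpr ?_) (fun g hg => ?_)
      · rintro _ ⟨ρ, γ, hρ, hγ, rfl⟩
        rw [SetLike.mem_coe, RingHom.mem_ker]
        refine TrivSqZeroExt.ext ?_ ?_
        · rw [fst_atEps, fst_zero]; exact hproper _ (Ideal.subset_span ⟨ρ, γ, hρ, hγ, rfl⟩)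
        · rw [snd_atEps, snd_zero]; exact hno ρ γ
      · rw [RingHom.mem_ker]
        obtain ⟨h1, h2⟩ := d1_eq_zero_of_mem_tan hf hv hg
        refine TrivSqZeroExt.ext ?_ ?_ <;> simp [fst_atEps, snd_atEps, h1, h2]
    have := hle hX
    rw [RingHom.mem_ker] at this
    have := congrArg TrivSqZeroExt.snd this
    rw [snd_atEps, d1_X, snd_zero] at this
    exact hi this
  have hkerγ : ∀ γ : Fin (n - 1) → Fin n, n - 1 ≤ finrank k (LinearMap.range (L0 f ∘ₗ ext γ)) +
      finrank k (LinearMap.ker (L0 f ∘ₗ ext γ)) := fun γ => by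
    rw [LinearMap.finrank_range_add_finrank_ker]; simp
  have hsub : ∀ γ : Fin (n - 1) → Fin n,
      LinearMap.range (L0 f ∘ₗ ext γ) ≤ LinearMap.range (L0 f) := fun γ => LinearMap.range_comp_le_range _ _
  refine ⟨?_, fun v hv hv0 => ?_⟩
  · by_contra h2
    have hbot : tan f ≠ ⊥ := fun hb => by rw [hb, finrank_bot] at htan; omega
    obtain ⟨v, hv, hv0⟩ := Submodule.exists_mem_ne_zero_of_ne_bot hbot
    obtain ⟨ρ, γ, hd⟩ := hsee v hv hv0
    refine hd (d1_det_eq_zero_of_two f ρ γ ?_ v)
    have := hkerγ γ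
    have := Submodule.finrank_mono (hsub γ)
    omega
  obtain ⟨ρ, γ, hd⟩ := hsee v hv hv0
  have hlt : finrank k (LinearMap.ker (L0 f ∘ₗ ext γ)) < 2 := lt_of_not_ge fun h2 => hd (d1_det_eq_zero_of_two f ρ γ h2 v)
  have hr1 := hkerγ γ
  have hr2 := Submodule.finrank_mono (hsub γ)
  have hRange : LinearMap.range (L0 f ∘ₗ ext γ) = LinearMap.range (L0 f) :=
    Submodule.eq_of_le_of_finrank_le (hsub γ) (by omega)
  obtain ⟨z, hz, hz0⟩ := Submodule.exists_mem_ne_zero_of_ne_bot
    (fun hb : LinearMap.ker (L0 f ∘ₗ ext γ) = ⊥ => by rw [hb, finrank_bot] at hr1; omega)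
  have hzt : ext γ z ∈ tan f := hz
  let H : Fin m → k := fun j => d2 v (ext γ z) (f j)
  have hH : H ∉ LinearMap.range (L0 f) := by
    rw [← hRange]
    rintro ⟨u, hu⟩
    exact hd (d1_det_eq_zero_of_vec f ρ γ v hz0 hz fun j => by
      rw [← L0_apply]; exact congrFun hu j)
  obtain ⟨φ, hφ, hker⟩ := Submodule.exists_le_ker_of_notMem hH
  let g := ∑ j, C (φ (Pi.single j 1)) * f j
  have hφsum : ∀ x : Fin m → k, φ x = ∑ j, φ (Pi.single j 1) * x j := by
    intro x
    conv_lhs => rw [← Finset.univ_sum_single x, map_sum]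
    refine Finset.sum_congr rfl fun j _ => ?_
    rw [show Pi.single j (x j) = x j • Pi.single (M := fun _ => k) j (1 : k) by
      rw [← Pi.single_smul', smul_eq_mul, mul_one], map_smul, smul_eq_mul, mul_comm]
  refine ⟨g, sum_mem fun j _ => Ideal.mul_mem_left _ _ (Ideal.subset_span ⟨j, rfl⟩), fun w => ?_,
    ext γ z, hzt, ?_⟩
  · simp only [g, map_sum, d1_C_mul, ← L0_apply, ← hφsum]
    exact hker ⟨w, rfl⟩
  · simp only [g, map_sum, d2_C_mul]
    exact fun h0 => hφ ((hφsum H).trans h0)

theorem eq_of_crit (hf : ∀ j, constantCoeff (f j) = 0) (h : SecondOrder f) : crit f = 𝔪 := by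
  classical
  obtain ⟨h2, hnd⟩ := h
  have htan := finrank_range_add (f := f)
  have hle : crit f ≤ 𝔪 := by
    refine sup_le (Ideal.span_le.mpr ?_) (Ideal.span_le.mpr ?_)
    · rintro _ ⟨ρ, γ, -, -, rfl⟩
      rw [SetLike.mem_coe, mem_maximalIdeal_iff]
      have h1 := (L0 f ∘ₗ ext γ).finrank_range_add_finrank_ker
      have h3 := Submodule.finrank_mono (LinearMap.range_comp_le_range (ext γ) (L0 f))
      simp only [finrank_fin_fun] at h1
      obtain ⟨z, hz, hz0⟩ := Submodule.exists_mem_ne_zero_of_ne_bot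
        (fun hb : LinearMap.ker (L0 f ∘ₗ ext γ) = ⊥ => by rw [hb, finrank_bot] at h1; omega)
      exact constantCoeff_det_eq_zero f ρ γ hz0 hz
    · rintro _ ⟨j, rfl⟩
      exact mem_maximalIdeal_iff.mpr (hf j)
  refine eq_maximalIdeal hle fun v hv => ?_
  by_contra hv0
  have hvt : v ∈ tan f := (mem_tan f).mpr fun j => hv _ (Ideal.mem_sup_right (Ideal.subset_span ⟨j, rfl⟩))
  obtain ⟨g, hg, hg1, w, hw, hgw⟩ := hnd v hvt hv0
  obtain ⟨c, hc⟩ := Ideal.mem_span_range_iff_exists_fun.mp hg
  let μ : Fin m → k := fun j => constantCoeff (c j)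
  have hμ1 : ∀ u, ∑ j, μ j * d1 u (f j) = 0 := fun u => by
    rw [← hg1 u, ← hc, map_sum]
    simp [d1_mul, hf, μ]
  have hμ2 : ∑ j, μ j * d2 v w (f j) = d2 v w g := by
    rw [← hc, map_sum]
    simp [d2_mul, hf, μ, (mem_tan f).mp hvt, (mem_tan f).mp hw]
  -- a minor whose derivative along `v` is the value of the quadratic form
  let r := finrank k (LinearMap.range (L0 f))
  let bR := finBasis k (LinearMap.range (L0 f))
  choose u hu using fun a : Fin r => (bR a).2
  obtain ⟨π, hπ⟩ := LinearMap.exists_leftInverse_of_injective (Fintype.linearCombination k fun a => (bR a : Fin m → k))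
    (LinearMap.ker_eq_bot.mpr
      (bR.linearIndependent.map' _ (Submodule.ker_subtype _)).fintypeLinearCombination_injective)
  let p : Fin r ⊕ Unit → Fin m → k := Sum.elim (fun a j => π (Pi.single j 1) a) fun _ => μ
  let q : Fin r ⊕ Unit → Fin n → k := Sum.elim u fun _ => w
  let P : Matrix (Fin r ⊕ Unit) (Fin m) (MvPowerSeries (Fin n) k) := Matrix.of fun a j => C (p a j)
  let Q : Matrix (Fin n) (Fin r ⊕ Unit) (MvPowerSeries (Fin n) k) := Matrix.of fun i b => C (q b i)
  have hcard : Fintype.card (Fin r ⊕ Unit) = n - 1 := by simp [r]; omega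
  have hmem : (P * jac f * Q).det ∈ crit f := Ideal.mem_sup_left (det_mul_mem hcard P (jac f) Q)
  let M := (P * jac f * Q).map (atEps v)
  have hM : ∀ a b, M a b = inl (∑ j, p a j * d1 (q b) (f j)) + inr (∑ j, p a j * d2 v (q b) (f j)) := by
    intro a b
    simp only [M, Matrix.map_apply, Matrix.mul_apply, Finset.sum_mul, map_sum, P, Q, jac, Matrix.of_apply,
      map_mul]
    refine TrivSqZeroExt.ext ?_ ?_
    · simp only [fst_sum, fst_mul, fst_atEps, constantCoeff_C, fst_add, fst_inl, fst_inr, add_zero,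
        d1_apply, Finset.mul_sum]
      rw [Finset.sum_comm]
      exact Finset.sum_congr rfl fun _ _ => Finset.sum_congr rfl fun _ _ => by ring
    · simp only [snd_sum, snd_mul, fst_mul, fst_atEps, snd_atEps, constantCoeff_C, d1_C, snd_add, snd_inl,
        snd_inr, zero_add, d2_apply, Finset.mul_sum, smul_eq_mul, MulOpposite.smul_eq_mul_unop,
        MulOpposite.unop_op, mul_zero, zero_mul, add_zero]
      rw [Finset.sum_comm]
      exact Finset.sum_congr rfl fun _ _ => Finset.sum_congr rfl fun _ _ => by ring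
  have hπ' : ∀ a b, ∑ j, π (Pi.single j 1) a * d1 (u b) (f j) = (1 : Matrix (Fin r) (Fin r) k) a b := by
    intro a b
    have h3 := congrFun (LinearMap.congr_fun hπ (Pi.single b 1)) a
    rw [LinearMap.comp_apply, Fintype.linearCombination_apply_single, one_smul, LinearMap.id_apply] at h3
    simp only [← hu] at h3
    rw [← Finset.univ_sum_single (L0 f (u b)), map_sum, Finset.sum_apply] at h3
    refine Eq.trans (Finset.sum_congr rfl fun j _ => ?_) (h3.trans ?_)
    · rw [show Pi.single j (L0 f (u b) j) = L0 f (u b) j • Pi.single (M := fun _ => k) j (1 : k) by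
        rw [← Pi.single_smul', smul_eq_mul, mul_one], map_smul, Pi.smul_apply, smul_eq_mul, mul_comm, L0_apply]
    · simp [Pi.single_apply, Matrix.one_apply, eq_comm]
  -- the last column is divisible by `ε`
  let z : Fin r ⊕ Unit → DualNumber k := fun a => inl (∑ j, p a j * d2 v w (f j))
  have hlast : (fun a => M a (Sum.inr ())) = (DualNumber.eps : DualNumber k) • z := by
    funext a
    rw [hM, Pi.smul_apply, smul_eq_mul]
    have : ∀ j, d1 w (f j) = 0 := (mem_tan f).mp hw
    rw [eps_mul]
    refine TrivSqZeroExt.ext ?_ ?_ <;> simp [z, q, this]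
  have hMup : M = M.updateCol (Sum.inr ()) ((DualNumber.eps : DualNumber k) • z) := by
    rw [← hlast]; exact (updateCol_eq_self M (Sum.inr ())).symm
  have hfst : TrivSqZeroExt.fst (M.updateCol (Sum.inr ()) z).det = d2 v w g := by
    let φ : DualNumber k →+* k := (TrivSqZeroExt.fstHom k k k).toRingHom
    show φ (M.updateCol (Sum.inr ()) z).det = _
    rw [RingHom.map_det]
    have hblock : φ.mapMatrix (M.updateCol (Sum.inr ()) z) =
        Matrix.fromBlocks 1 (Matrix.of fun a _ => ∑ j, p (Sum.inl a) j * d2 v w (f j)) 0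
          (Matrix.of fun _ _ => d2 v w g) := by
      ext a b
      rcases a with a | a <;> rcases b with b | b
      · rw [Matrix.fromBlocks_apply₁₁]
        refine Eq.trans ?_ (hπ' a b)
        simp [φ, updateCol_apply, hM, p, q]
      · simp [φ, updateCol_apply, z, p]
      · simp [φ, updateCol_apply, hM, p, q, hμ1]
      · simp [φ, updateCol_apply, z, p, hμ2]
    rw [hblock, det_fromBlocks_zero₂₁, det_one, one_mul, det_unique]
    rfl
  have hdet : atEps v (P * jac f * Q).det = (DualNumber.eps : DualNumber k) * (M.updateCol (Sum.inr ()) z).det := by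
    rw [RingHom.map_det]
    show M.det = _
    conv_lhs => rw [hMup]
    rw [det_updateCol_smul]
  have h0 := hv _ hmem
  rw [← snd_atEps, hdet] at h0
  refine hgw ?_
  rw [← hfst]
  rwa [eps_mul, snd_inr] at h0

/-- The minors and the equations generate the maximal ideal iff the second order data is that of a node. -/
theorem crit_eq_iff (hf : ∀ j, constantCoeff (f j) = 0) : crit f = 𝔪 ↔ SecondOrder f :=
  ⟨crit_of_eq hf, eq_of_crit hf⟩

end Groth.Agent.JacNode
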