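import Mathlib.LinearAlgebra.Matrix.Determinant.Basic
import Mathlib.LinearAlgebra.Matrix.Block
import Mathlib.Algebra.DualNumber
import Mathlib.RingTheory.Ideal.Span

/-!
# Minors of a matrix and determinants over dual numbers
-/

set_option autoImplicit false

open Matrix

namespace Groth.Agent.JacNode

variable {R : Type*} [CommRing R] {μ ν ι : Type*}

/-- The ideal generated by the square minors of size `r` with injective row and column indices. -/
def minors (B : Matrix μ ν R) (r : ℕ) : Ideal R :=
  Ideal.span {d | ∃ (ρ : Fin r → μ) (γ : Fin r → ν), Function.Injective ρ ∧ Function.Injective γ ∧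
    d = (B.submatrix ρ γ).det}

theorem det_mul_mem_rows [Fintype μ] [Fintype ι] [DecidableEq ι] (P : Matrix ι μ R) (C : Matrix μ ι R) :
    (P * C).det ∈ Ideal.span {d | ∃ ρ : ι → μ, Function.Injective ρ ∧ d = (C.submatrix ρ id).det} := by
  classical
  have h : (P * C) = fun i => ∑ j, P i j • C j := by
    funext i k
    simp [Matrix.mul_apply]
  rw [h]
  show (detRowAlternating : (ι → R) [⋀^ι]→ₗ[R] R).toMultilinearMap (fun i => ∑ j, P i j • C j) ∈ _
  rw [MultilinearMap.map_sum]
  refine sum_mem fun ρ _ => ?_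
  rw [MultilinearMap.map_smul_univ, smul_eq_mul]
  refine Ideal.mul_mem_left _ _ ?_
  by_cases hρ : Function.Injective ρ
  · exact Ideal.subset_span ⟨ρ, hρ, rfl⟩
  · rw [Function.not_injective_iff] at hρ
    obtain ⟨i, j, hij, hne⟩ := hρ
    have h0 : (detRowAlternating : (ι → R) [⋀^ι]→ₗ[R] R).toMultilinearMap (fun i => C (ρ i)) = 0 :=
      AlternatingMap.map_eq_zero_of_eq _ _ (congrArg C hij) hne
    rw [h0]
    exact zero_mem _

/-- `det (P B Q)` lies in the ideal of minors of `B` of the same size. -/
theorem det_mul_mem [Fintype μ] [Fintype ν] [Fintype ι] [DecidableEq ι] {r : ℕ} (hr : Fintype.card ι = r)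
    (P : Matrix ι μ R) (B : Matrix μ ν R) (Q : Matrix ν ι R) : (P * B * Q).det ∈ minors B r := by
  obtain e := Fintype.equivFinOfCardEq hr
  rw [Matrix.mul_assoc]
  refine Ideal.span_le.mpr ?_ (det_mul_mem_rows P (B * Q))
  rintro _ ⟨ρ, hρ, rfl⟩
  have h : ((B * Q).submatrix ρ id).det = (Q.transpose * (B.submatrix ρ id).transpose).det := by
    rw [← Matrix.transpose_mul, Matrix.det_transpose]
    rfl
  rw [SetLike.mem_coe, h]
  refine Ideal.span_le.mpr ?_ (det_mul_mem_rows _ _)
  rintro _ ⟨γ, hγ, rfl⟩
  refine Ideal.subset_span ⟨ρ ∘ e.symm, γ ∘ e.symm, hρ.comp e.symm.injective, hγ.comp e.symm.injective, ?_⟩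
  rw [← det_transpose, ← det_submatrix_equiv_self e.symm]
  rfl

variable [Fintype ι] [DecidableEq ι]

theorem det_updateCol_mulVec (B : Matrix ι ι R) (a : ι) (c : ι → R) :
    (B.updateCol a (B *ᵥ c)).det = c a * B.det := by
  rw [← smul_eq_mul (c a), ← det_updateCol_sum B a c]
  congr 2
  funext k
  simp [Matrix.mulVec, dotProduct, mul_comm]

/-- A matrix with a kernel vector having a unit coordinate has determinant zero. -/
theorem det_eq_zero_of_ker (B : Matrix ι ι R) {a : ι} {c : ι → R} (h : B *ᵥ c = 0) (ha : IsUnit (c a)) :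
    B.det = 0 := by
  have h1 := det_updateCol_mulVec B a c
  rw [h, det_eq_zero_of_column_eq_zero a (fun i => by simp)] at h1
  exact ha.mul_right_eq_zero.mp h1.symm

/-- Two independent vectors mapped into `εR` kill the determinant when `ε² = 0`. -/
theorem det_eq_zero_of_two (B : Matrix ι ι R) {e : R} (he : e * e = 0) {a b : ι} (hab : a ≠ b) {c d u v : ι → R}
    (hc : B *ᵥ c = e • u) (hd : B *ᵥ d = e • v) (hca : IsUnit (c a)) (hda : d a = 0) (hdb : IsUnit (d b)) :
    B.det = 0 := by
  let B' := B.updateCol a (B *ᵥ c)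
  have h1 : B'.det = c a * B.det := det_updateCol_mulVec B a c
  have hB'd : B' *ᵥ d = B *ᵥ d := by
    funext i
    refine Finset.sum_congr rfl fun j _ => ?_
    by_cases hj : j = a
    · subst hj; simp [hda]
    · simp [B', updateCol_ne hj]
  have h2 : (B'.updateCol b (B *ᵥ d)).det = d b * B'.det := hB'd ▸ det_updateCol_mulVec B' b d
  have h3 : (B'.updateCol b (B *ᵥ d)).det = 0 := by
    rw [hd, det_updateCol_smul]
    have : B'.updateCol b v = (B.updateCol b v).updateCol a (e • u) := by
      simp only [B', hc]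
      exact updateCol_comm _ hab _ _
    rw [this, det_updateCol_smul, ← mul_assoc, he, zero_mul]
  rw [h3, h1, eq_comm, hdb.mul_right_eq_zero, hca.mul_right_eq_zero] at h2
  exact h2

end Groth.Agent.JacNode
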