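import Groth.Agent.JacNode.Criterion
import Mathlib.RingTheory.Ideal.Cotangent
import Mathlib.LinearAlgebra.Dimension.Constructions

/-!
# The second order condition as a relation of the quotient ring
-/

set_option autoImplicit false

universe u

open MvPowerSeries Module IsLocalRing

namespace Groth.Agent.JacNode

variable {k : Type u} [Field k] {n m : ℕ} {f : Fin m → MvPowerSeries (Fin n) k}

/-- A binary quadratic form with nonzero discriminant among enough forms. -/
theorem exists_disc_ne_zero (Q : Set (k × k × k))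
    (hadd : ∀ q₁ ∈ Q, ∀ q₂ ∈ Q, q₁ + q₂ ∈ Q)
    (h : ∀ s t : k, ¬(s = 0 ∧ t = 0) → ∃ a b c, (a, b, c) ∈ Q ∧ (2 * a * s + b * t ≠ 0 ∨ b * s + 2 * c * t ≠ 0)) :
    ∃ a b c, (a, b, c) ∈ Q ∧ 4 * a * c - b ^ 2 ≠ 0 := by
  obtain ⟨a, b, c, hq, hne⟩ := h 1 0 (fun h => one_ne_zero h.1)
  simp only [mul_one, mul_zero, add_zero] at hne
  by_cases hd : 4 * a * c - b ^ 2 = 0
  swap
  · exact ⟨a, b, c, hq, hd⟩
  have ha : a ≠ 0 := fun h0 => by
    subst h0
    have hb : b = 0 := by
      rcases mul_self_eq_zero.mp (show b * b = 0 by linear_combination -hd) with rfl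
      rfl
    simp [hb] at hne
  have h2 : (2 : k) ≠ 0 := fun h0 => by
    have hb : b * b = 0 := by linear_combination -hd + 2 * a * c * h0
    simp [mul_self_eq_zero.mp hb, h0] at hne
  obtain ⟨a', b', c', hq', hne'⟩ := h (-b) (2 * a) (fun h0 => mul_ne_zero h2 ha h0.2)
  by_cases hd' : 4 * a' * c' - b' ^ 2 = 0
  swap
  · exact ⟨a', b', c', hq', hd'⟩
  refine ⟨a + a', b + b', c + c', hadd _ hq _ hq', fun h0 => ?_⟩
  by_cases ha' : a' = 0
  · subst ha'
    have hb' : b' = 0 := mul_self_eq_zero.mp (show b' * b' = 0 by linear_combination -hd')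
    subst hb'
    rcases hne' with h1 | h1
    · exact h1 (by ring)
    · exact h1 (by linear_combination h0 - hd)
  have hprop : (a * b' - a' * b) ^ 2 = 0 := by
    linear_combination a * a' * h0 - a' * (a + a') * hd - a * (a + a') * hd'
  have hprop' : a * b' - a' * b = 0 := sq_eq_zero_iff.mp hprop
  rcases hne' with h1 | h1
  · exact h1 (by linear_combination 2 * hprop')
  · exact h1 ((mul_eq_zero.mp (show a' * (-b * b' + 4 * a * c') = 0 by
      linear_combination a * hd' + b' * hprop')).resolve_left ha' |> fun h => by linear_combination h)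

theorem finrank_le_two {R : Type u} [CommRing R] [IsLocalRing R] {x y : R} (hx : x ∈ maximalIdeal R)
    (hy : y ∈ maximalIdeal R) (h : maximalIdeal R ≤ Ideal.span {x, y} ⊔ maximalIdeal R ^ 2) :
    finrank (ResidueField R) (CotangentSpace R) ≤ 2 := by
  let F : (Fin 2 → ResidueField R) →ₗ[ResidueField R] CotangentSpace R :=
    Fintype.linearCombination (ResidueField R)
      ![(maximalIdeal R).toCotangent ⟨x, hx⟩, (maximalIdeal R).toCotangent ⟨y, hy⟩]
  have hF : LinearMap.range F = ⊤ := by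
    rw [eq_top_iff]
    rintro z -
    obtain ⟨⟨z, hz⟩, rfl⟩ := Ideal.toCotangent_surjective _ z
    obtain ⟨s, hs, w, hw, hsw⟩ := Submodule.mem_sup.mp (h hz)
    obtain ⟨p, q, rfl⟩ := Ideal.mem_span_pair.mp hs
    refine ⟨![residue R p, residue R q], ?_⟩
    show Fintype.linearCombination (ResidueField R) _ _ = _
    rw [Fintype.linearCombination_apply, Fin.sum_univ_two]
    show p • (maximalIdeal R).toCotangent ⟨x, hx⟩ + q • (maximalIdeal R).toCotangent ⟨y, hy⟩ = _
    rw [← map_smul, ← map_smul, ← map_add, Ideal.toCotangent_eq]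
    show p * x + q * y - z ∈ _
    rw [← hsw, sub_add_cancel_left]
    exact neg_mem hw
  have := LinearMap.finrank_le_finrank_of_surjective (LinearMap.range_eq_top.mp hF) (R := ResidueField R)
  rwa [finrank_fin_fun] at this

local notation "𝔪" => IsLocalRing.maximalIdeal (MvPowerSeries (Fin n) k)

variable (hf : ∀ j, constantCoeff (f j) = 0)
include hf

theorem span_le_max : Ideal.span (Set.range f) ≤ 𝔪 := Ideal.span_le.mpr (by
  rintro _ ⟨j, rfl⟩; exact mem_maximalIdeal_iff.mpr (hf j))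

/-- Elements killed by all tangent directions lie in `I + m²`. -/
theorem mem_sup_of_tan {e : MvPowerSeries (Fin n) k} (he : constantCoeff e = 0)
    (h : ∀ v ∈ tan f, d1 v e = 0) : e ∈ Ideal.span (Set.range f) ⊔ 𝔪 ^ 2 :=
  mem_sup_sq (span_le_max hf) (mem_maximalIdeal_iff.mpr he) fun v hv =>
    h v ((mem_tan f).mpr fun j => hv _ (Ideal.subset_span ⟨j, rfl⟩))

variable [IsLocalRing (MvPowerSeries (Fin n) k ⧸ Ideal.span (Set.range f))]

local notation "A" => MvPowerSeries (Fin n) k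
local notation "I" => Ideal.span (Set.range f)
local notation "π" => Ideal.Quotient.mk (Ideal.span (Set.range f))

theorem map_max : Ideal.map π 𝔪 = maximalIdeal (A ⧸ I) :=
  IsLocalRing.map_maximalIdeal_of_surjective _ Ideal.Quotient.mk_surjective

theorem map_sup_mem {N : ℕ} {e : A} (h : e ∈ I ⊔ 𝔪 ^ N) : π e ∈ maximalIdeal (A ⧸ I) ^ N := by
  obtain ⟨i, hi, w, hw, rfl⟩ := Submodule.mem_sup.mp h
  rw [map_add, Ideal.Quotient.eq_zero_iff_mem.mpr hi, zero_add, ← map_max hf, ← Ideal.map_pow]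
  exact Ideal.mem_map_of_mem _ hw

theorem mem_sup_of_map {N : ℕ} {e : A} (h : π e ∈ maximalIdeal (A ⧸ I) ^ N) : e ∈ I ⊔ 𝔪 ^ N := by
  rw [← map_max hf, ← Ideal.map_pow, ← Ideal.mem_comap,
    Ideal.comap_map_of_surjective _ Ideal.Quotient.mk_surjective] at h
  rw [sup_comm]
  simpa [← RingHom.ker_eq_comap_bot] using h

theorem mem_max_iff {e : A} : π e ∈ maximalIdeal (A ⧸ I) ↔ constantCoeff e = 0 := by
  refine ⟨fun h => ?_, fun h => ?_⟩
  · have := mem_sup_of_map hf (N := 1) (by rwa [pow_one])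
    rw [pow_one, sup_eq_right.mpr (span_le_max hf)] at this
    exact mem_maximalIdeal_iff.mp this
  · rw [← map_max hf]; exact Ideal.mem_map_of_mem _ (mem_maximalIdeal_iff.mpr h)

/-- If the cotangent space of the quotient is at most one-dimensional so is the tangent space. -/
theorem finrank_cot_gt_one (h2 : 2 ≤ finrank k (tan f)) :
    ¬ ∃ z ∈ maximalIdeal (A ⧸ I), maximalIdeal (A ⧸ I) ≤ Ideal.span {z} ⊔ maximalIdeal (A ⧸ I) ^ 2 := by
  rintro ⟨z, hz, hle⟩
  obtain ⟨z, rfl⟩ := Ideal.Quotient.mk_surjective z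
  have hz0 := (mem_max_iff hf).mp hz
  let F : tan f →ₗ[k] k :=
    { toFun := fun v => d1 (v : Fin n → k) z
      map_add' := fun a b => by simp [d1_apply, add_mul, Finset.sum_add_distrib]
      map_smul' := fun c a => by simp [d1_apply, Finset.mul_sum, mul_assoc] }
  have hinj : Function.Injective F := by
    rw [← LinearMap.ker_eq_bot, eq_bot_iff]
    rintro ⟨v, hv⟩ (hvz : d1 v z = 0)
    refine Subtype.ext (funext fun i => ?_)
    obtain ⟨s, hs, w, hw, hsw⟩ := Submodule.mem_sup.mp (hle ((mem_max_iff hf).mpr (constantCoeff_X i)))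
    obtain ⟨c, rfl⟩ := Ideal.mem_span_singleton'.mp hs
    obtain ⟨c, rfl⟩ := Ideal.Quotient.mk_surjective c
    have hmem : π (X i - c * z) ∈ maximalIdeal (A ⧸ I) ^ 2 := by
      rw [map_sub, map_mul, ← hsw, add_sub_cancel_left]; exact hw
    obtain ⟨g, hg, w', hw', hgw⟩ := Submodule.mem_sup.mp (mem_sup_of_map hf hmem)
    have h3 := congrArg (d1 v) hgw
    rw [map_add, (d1_eq_zero_of_mem_tan hf hv hg).2, (of_mem_sq hw').2, map_sub, d1_X, d1_mul, hz0, hvz] at h3
    simpa using h3.symm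
  have := LinearMap.finrank_le_finrank_of_injective hinj
  rw [finrank_self] at this
  omega

/-- The relation from the second order data. -/
theorem exists_relation (h : SecondOrder f) :
    finrank (ResidueField (A ⧸ I)) (CotangentSpace (A ⧸ I)) = 2 ∧
      ∃ (x y : A ⧸ I) (a b c : k), x ∈ maximalIdeal (A ⧸ I) ∧ y ∈ maximalIdeal (A ⧸ I) ∧
        Ideal.span {x, y} ⊔ maximalIdeal (A ⧸ I) ^ 2 = maximalIdeal (A ⧸ I) ∧
        4 * a * c - b ^ 2 ≠ 0 ∧
        π (C a) * x ^ 2 + π (C b) * x * y + π (C c) * y ^ 2 ∈ maximalIdeal (A ⧸ I) ^ 3 := by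
  classical
  obtain ⟨h2, hnd⟩ := h
  let bs := finBasisOfFinrankEq k (tan f) h2
  let α : Fin n → k := (bs 0 : Fin n → k)
  let β : Fin n → k := (bs 1 : Fin n → k)
  obtain ⟨E, hE⟩ := LinearMap.exists_leftInverse_of_injective
    ((tan f).subtype ∘ₗ bs.equivFun.symm.toLinearMap)
    (LinearMap.ker_eq_bot.mpr ((tan f).subtype_injective.comp bs.equivFun.symm.injective))
  let co : Fin 2 → Fin n → k := fun d i => E (Pi.single i 1) d
  let el : Fin 2 → A := fun d => ∑ i, C (co d i) * X i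
  have hco : ∀ v : Fin n → k, ∀ d, d1 v (el d) = E v d := by
    intro v d
    conv_rhs => rw [← Finset.univ_sum_single v, map_sum, Finset.sum_apply]
    simp only [el, map_sum, d1_C_mul, d1_X]
    refine Finset.sum_congr rfl fun i _ => ?_
    rw [show Pi.single i (v i) = v i • Pi.single (M := fun _ => k) i (1 : k) by
      rw [← Pi.single_smul', smul_eq_mul, mul_one], map_smul, Pi.smul_apply, smul_eq_mul, mul_comm]
  have hel : ∀ d, constantCoeff (el d) = 0 := fun d => by simp [el]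
  have hcoord : ∀ v ∈ tan f, v = E v 0 • α + E v 1 • β := by
    intro v hv
    have h1 : bs.equivFun ⟨v, hv⟩ = E v := by
      have := LinearMap.congr_fun hE (bs.equivFun ⟨v, hv⟩)
      simpa using this.symm
    have h2 := congrArg Subtype.val (bs.equivFun.symm_apply_apply ⟨v, hv⟩)
    rw [h1, Basis.equivFun_symm_apply, Fin.sum_univ_two] at h2
    exact h2.symm
  have hsq : ∀ i, X i - (C (α i) * el 0 + C (β i) * el 1) ∈ I ⊔ 𝔪 ^ 2 := fun i =>
    mem_sup_of_tan hf (by simp [hel]) fun v hv => by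
      rw [map_sub, map_add, d1_X, d1_C_mul, d1_C_mul, hco, hco]
      have := congrFun (hcoord v hv) i
      simp only [Pi.add_apply, Pi.smul_apply, smul_eq_mul] at this
      linear_combination this
  have hmem : ∀ d, π (el d) ∈ maximalIdeal (A ⧸ I) := fun d => (mem_max_iff hf).mpr (hel d)
  have hspan : Ideal.span {π (el 0), π (el 1)} ⊔ maximalIdeal (A ⧸ I) ^ 2 = maximalIdeal (A ⧸ I) := by
    refine le_antisymm (sup_le (Ideal.span_le.mpr ?_) (Ideal.pow_le_self two_ne_zero)) ?_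
    · rintro _ (rfl | rfl) <;> exact hmem _
    · conv_lhs => rw [← map_max hf, PSLoc.maximalIdeal_eq, Ideal.map_span]
      refine Ideal.span_le.mpr ?_
      rintro _ ⟨_, ⟨i, rfl⟩, rfl⟩
      have h1 := map_sup_mem hf (hsq i)
      have h3 : π (X i) = π (C (α i)) * π (el 0) + π (C (β i)) * π (el 1) + π (X i - (C (α i) * el 0 + C (β i) * el 1)) := by
        simp only [map_sub, map_add, map_mul]; ring
      rw [h3]
      exact add_mem (Ideal.mem_sup_left (Ideal.mem_span_pair.mpr ⟨_, _, rfl⟩)) (Ideal.mem_sup_right h1)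
  -- the quadratic forms of the relations
  let Q : Set (k × k × k) := {q | ∃ g ∈ I, (∀ w, d1 w g = 0) ∧
    g - (C q.1 * el 0 ^ 2 + C q.2.1 * el 0 * el 1 + C q.2.2 * el 1 ^ 2) ∈ I ⊔ 𝔪 ^ 3}
  have hQ : ∀ g ∈ I, (∀ w, d1 w g = 0) → ∃ a b c, (a, b, c) ∈ Q ∧ ∀ v ∈ tan f, ∀ w ∈ tan f,
      d2 v w g = E w 0 * (2 * a * E v 0 + b * E v 1) + E w 1 * (b * E v 0 + 2 * c * E v 1) := by
    intro g hg hg1
    obtain ⟨c₁, hc₁⟩ := exists_eq_sum_X (d1_eq_zero_of_mem_tan hf (zero_mem _) hg).1
    have h0 : ∀ i, constantCoeff (c₁ i) = 0 := fun i => by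
      have := hg1 (Pi.single i 1)
      rw [hc₁] at this
      simpa [map_sum, d1_mul, d1_X, Pi.single_apply] using this
    choose c₂ hc₂ using fun i => exists_eq_sum_X (h0 i)
    let γ : Fin n → Fin n → k := fun i l => constantCoeff (c₂ i l)
    let a := ∑ i, ∑ l, γ i l * (α i * α l)
    let b := ∑ i, ∑ l, γ i l * (α i * β l + β i * α l)
    let c := ∑ i, ∑ l, γ i l * (β i * β l)
    have hg' : g = ∑ i, ∑ l, X i * X l * c₂ i l := by
      rw [hc₁]
      refine Finset.sum_congr rfl fun i _ => ?_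
      rw [hc₂ i, Finset.mul_sum]
      exact Finset.sum_congr rfl fun l _ => by ring
    refine ⟨a, b, c, ⟨g, hg, hg1, ?_⟩, fun v hv w hw => ?_⟩
    · have hexp : C a * el 0 ^ 2 + C b * el 0 * el 1 + C c * el 1 ^ 2 =
          ∑ i, ∑ l, (C (α i) * el 0 + C (β i) * el 1) * (C (α l) * el 0 + C (β l) * el 1) * C (γ i l) := by
        simp only [a, b, c, map_sum, map_add, map_mul, Finset.sum_mul, ← Finset.sum_add_distrib]
        exact Finset.sum_congr rfl fun i _ => Finset.sum_congr rfl fun l _ => by ring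
      show g - (C a * el 0 ^ 2 + C b * el 0 * el 1 + C c * el 1 ^ 2) ∈ _
      rw [hexp, hg', ← Finset.sum_sub_distrib]
      refine sum_mem fun i _ => ?_
      rw [← Finset.sum_sub_distrib]
      refine sum_mem fun l _ => ?_
      have hL : ∀ i, C (α i) * el 0 + C (β i) * el 1 ∈ 𝔪 := fun i =>
        mem_maximalIdeal_iff.mpr (by simp [hel])
      have hmul : (I ⊔ 𝔪 ^ 2) * 𝔪 ≤ I ⊔ 𝔪 ^ 3 := by
        rw [Ideal.sup_mul, ← pow_succ]
        exact sup_le_sup Ideal.mul_le_left le_rfl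
      have e : X i * X l * c₂ i l - (C (α i) * el 0 + C (β i) * el 1) * (C (α l) * el 0 + C (β l) * el 1) * C (γ i l) =
          (X i - (C (α i) * el 0 + C (β i) * el 1)) * X l * c₂ i l +
          (X l - (C (α l) * el 0 + C (β l) * el 1)) * (C (α i) * el 0 + C (β i) * el 1) * c₂ i l +
          (C (α i) * el 0 + C (β i) * el 1) * (C (α l) * el 0 + C (β l) * el 1) * (c₂ i l - C (γ i l)) := by
        ring
      rw [e]
      refine add_mem (add_mem (Ideal.mul_mem_right _ _ (hmul (Ideal.mul_mem_mul (hsq i) (X_mem l))))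
        (Ideal.mul_mem_right _ _ (hmul (Ideal.mul_mem_mul (hsq l) (hL i))))) (Ideal.mem_sup_right ?_)
      rw [pow_succ, pow_two]
      exact Ideal.mul_mem_mul (Ideal.mul_mem_mul (hL i) (hL l)) (mem_maximalIdeal_iff.mpr (by simp [γ]))
    · have hterm : ∀ i l, d2 v w (X i * X l * c₂ i l) = γ i l * (v i * w l + w i * v l) := by
        intro i l
        simp [d2_mul, d1_mul, d1_X, γ]
      rw [hg']
      simp only [map_sum, hterm, a, b, c, Finset.mul_sum, Finset.sum_mul, ← Finset.sum_add_distrib]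
      refine Finset.sum_congr rfl fun i _ => Finset.sum_congr rfl fun l _ => ?_
      have e1 := congrFun (hcoord v hv) i
      have e2 := congrFun (hcoord v hv) l
      have e3 := congrFun (hcoord w hw) i
      have e4 := congrFun (hcoord w hw) l
      simp only [Pi.add_apply, Pi.smul_apply, smul_eq_mul] at e1 e2 e3 e4
      rw [e1, e2, e3, e4]
      ring
  obtain ⟨a, b, c, ⟨g, hg, -, hgq⟩, hdisc⟩ := exists_disc_ne_zero Q
    (by
      rintro q₁ ⟨g₁, hg₁, h₁, h₁'⟩ q₂ ⟨g₂, hg₂, h₂, h₂'⟩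
      refine ⟨g₁ + g₂, add_mem hg₁ hg₂, fun w => by rw [map_add, h₁, h₂, add_zero], ?_⟩
      have := add_mem h₁' h₂'
      convert this using 1
      simp only [Prod.fst_add, Prod.snd_add, map_add]
      ring)
    (by
      intro s t hst
      let v : tan f := bs.equivFun.symm ![s, t]
      have hEv : E (v : Fin n → k) = ![s, t] := LinearMap.congr_fun hE ![s, t]
      obtain ⟨g, hg, hg1, w, hw, hgw⟩ := hnd v v.2 (fun h0 => by
        rw [h0, map_zero] at hEv
        exact hst ⟨(congrFun hEv 0).symm, (congrFun hEv 1).symm⟩)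
      obtain ⟨a, b, c, hQm, hd2⟩ := hQ g hg hg1
      refine ⟨a, b, c, hQm, ?_⟩
      rw [hd2 v v.2 w hw, hEv] at hgw
      simp only [Matrix.cons_val_zero, Matrix.cons_val_one] at hgw
      by_contra hno
      push Not at hno
      exact hgw (by rw [hno.1, hno.2]; ring))
  have hrel : π (C a) * π (el 0) ^ 2 + π (C b) * π (el 0) * π (el 1) + π (C c) * π (el 1) ^ 2 ∈
      maximalIdeal (A ⧸ I) ^ 3 := by
    have := map_sup_mem hf hgq
    rw [map_sub, Ideal.Quotient.eq_zero_iff_mem.mpr hg, zero_sub] at this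
    simpa only [neg_mem_iff, map_add, map_mul, map_pow] using this
  refine ⟨le_antisymm (finrank_le_two (hmem 0) (hmem 1) hspan.ge) ?_,
    π (el 0), π (el 1), a, b, c, hmem 0, hmem 1, hspan, hdisc, hrel⟩
  by_contra hlt
  have hle1 : finrank (ResidueField (A ⧸ I)) (CotangentSpace (A ⧸ I)) ≤ 1 := by omega
  obtain ⟨w, hw⟩ := finrank_le_one_iff.mp hle1
  obtain ⟨⟨z, hz⟩, rfl⟩ := Ideal.toCotangent_surjective _ w
  refine finrank_cot_gt_one hf h2.ge ⟨z, hz, fun e he => ?_⟩
  obtain ⟨r, hr⟩ := hw ((maximalIdeal (A ⧸ I)).toCotangent ⟨e, he⟩)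
  obtain ⟨r, rfl⟩ := IsLocalRing.residue_surjective r
  change r • (maximalIdeal (A ⧸ I)).toCotangent ⟨z, hz⟩ = _ at hr
  rw [← map_smul, Ideal.toCotangent_eq] at hr
  have hr' : r * z - e ∈ maximalIdeal (A ⧸ I) ^ 2 := hr
  have := Submodule.sub_mem _ (Ideal.mem_sup_left (T := maximalIdeal (A ⧸ I) ^ 2)
    (Ideal.mem_span_singleton'.mpr ⟨r, rfl⟩ : r * z ∈ Ideal.span {z})) (Ideal.mem_sup_right hr')
  rwa [sub_sub_cancel] at this

/-- The second order data from a relation. -/
theorem secondOrder_of_relation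
    (hfr : finrank (ResidueField (A ⧸ I)) (CotangentSpace (A ⧸ I)) = 2)
    {x y a b c : A ⧸ I} (hx : x ∈ maximalIdeal (A ⧸ I)) (hy : y ∈ maximalIdeal (A ⧸ I))
    (hspan : Ideal.span {x, y} ⊔ maximalIdeal (A ⧸ I) ^ 2 = maximalIdeal (A ⧸ I))
    (hd : residue (A ⧸ I) (4 * a * c - b ^ 2) ≠ 0)
    (hrel : a * x ^ 2 + b * x * y + c * y ^ 2 ∈ maximalIdeal (A ⧸ I) ^ 3) : SecondOrder f := by
  classical
  obtain ⟨x, rfl⟩ := Ideal.Quotient.mk_surjective x
  obtain ⟨y, rfl⟩ := Ideal.Quotient.mk_surjective y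
  obtain ⟨a, rfl⟩ := Ideal.Quotient.mk_surjective a
  obtain ⟨b, rfl⟩ := Ideal.Quotient.mk_surjective b
  obtain ⟨c, rfl⟩ := Ideal.Quotient.mk_surjective c
  have hx0 := (mem_max_iff hf).mp hx
  have hy0 := (mem_max_iff hf).mp hy
  have hd0 : 4 * constantCoeff a * constantCoeff c - constantCoeff b ^ 2 ≠ 0 := fun h0 => by
    apply hd
    have h1 : π (4 * a * c - b ^ 2) ∈ maximalIdeal (A ⧸ I) := (mem_max_iff hf).mpr (by
      simpa [map_ofNat] using h0)
    rw [residue_eq_zero_iff]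
    simpa [map_ofNat] using h1
  let F : tan f →ₗ[k] (Fin 2 → k) :=
    { toFun := fun v => ![d1 (v : Fin n → k) x, d1 (v : Fin n → k) y]
      map_add' := fun p q => by funext i; fin_cases i <;> simp [d1_apply, add_mul, Finset.sum_add_distrib]
      map_smul' := fun r p => by funext i; fin_cases i <;> simp [d1_apply, Finset.mul_sum, mul_assoc] }
  have hinj : Function.Injective F := by
    rw [← LinearMap.ker_eq_bot, eq_bot_iff]
    rintro ⟨v, hv⟩ hvF
    have h1 : d1 v x = 0 := congrFun hvF 0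
    have h2 : d1 v y = 0 := congrFun hvF 1
    refine Subtype.ext (funext fun i => ?_)
    obtain ⟨s, hs, w, hw, hsw⟩ := Submodule.mem_sup.mp (hspan.ge ((mem_max_iff hf).mpr (constantCoeff_X i)))
    obtain ⟨p, q, rfl⟩ := Ideal.mem_span_pair.mp hs
    obtain ⟨p, rfl⟩ := Ideal.Quotient.mk_surjective p
    obtain ⟨q, rfl⟩ := Ideal.Quotient.mk_surjective q
    have hmem : π (X i - (p * x + q * y)) ∈ maximalIdeal (A ⧸ I) ^ 2 := by
      rw [map_sub, map_add, map_mul, map_mul, ← hsw, add_sub_cancel_left]; exact hw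
    obtain ⟨g, hg, w', hw', hgw⟩ := Submodule.mem_sup.mp (mem_sup_of_map hf hmem)
    have h3 := congrArg (d1 v) hgw
    rw [map_add, (d1_eq_zero_of_mem_tan hf hv hg).2, (of_mem_sq hw').2, map_sub, map_add, d1_X, d1_mul,
      d1_mul, hx0, hy0, h1, h2] at h3
    simpa using h3.symm
  have hle : finrank k (tan f) ≤ 2 := by
    simpa using LinearMap.finrank_le_finrank_of_injective hinj
  have hge : 2 ≤ finrank k (tan f) := by
    by_contra hlt
    have h1 : finrank k (tan f) ≤ 1 := by omega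
    obtain ⟨v₀, hv₀⟩ := finrank_le_one_iff.mp h1
    obtain ⟨P, hP⟩ : ∃ P : A, constantCoeff P = 0 ∧ ∀ i, ∃ r : k, ∀ v ∈ tan f, v i = r * d1 v P := by
      by_cases h0 : (v₀ : Fin n → k) = 0
      · refine ⟨0, map_zero _, fun i => ⟨0, fun v hv => ?_⟩⟩
        obtain ⟨r, hr⟩ := hv₀ ⟨v, hv⟩
        have := congrFun (congrArg Subtype.val hr) i
        simpa [h0] using this.symm
      · obtain ⟨i₀, hi₀⟩ := Function.ne_iff.mp h0
        refine ⟨X i₀, constantCoeff_X i₀, fun i => ⟨(v₀ : Fin n → k) i / (v₀ : Fin n → k) i₀, fun v hv => ?_⟩⟩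
        obtain ⟨r, hr⟩ := hv₀ ⟨v, hv⟩
        have e1 : r * (v₀ : Fin n → k) i = v i := congrFun (congrArg Subtype.val hr) i
        have e2 : r * (v₀ : Fin n → k) i₀ = v i₀ := congrFun (congrArg Subtype.val hr) i₀
        have hi₀' : (v₀ : Fin n → k) i₀ ≠ 0 := hi₀
        rw [d1_X, ← e1, ← e2]
        field_simp
    have hz : maximalIdeal (A ⧸ I) ≤ Ideal.span {π P} ⊔ maximalIdeal (A ⧸ I) ^ 2 := by
      conv_lhs => rw [← map_max hf, PSLoc.maximalIdeal_eq, Ideal.map_span]
      refine Ideal.span_le.mpr ?_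
      rintro _ ⟨_, ⟨i, rfl⟩, rfl⟩
      obtain ⟨r, hr⟩ := hP.2 i
      have h1 := map_sup_mem hf (mem_sup_of_tan hf (e := X i - C r * P) (by simp [hP.1])
        (fun v hv => by rw [map_sub, d1_X, d1_C_mul, hr v hv, sub_self]))
      have h3 : π (X i) = π (C r) * π P + π (X i - C r * P) := by simp only [map_sub, map_mul]; ring
      rw [h3]
      exact add_mem (Ideal.mem_sup_left (Ideal.mem_span_singleton'.mpr ⟨_, rfl⟩)) (Ideal.mem_sup_right h1)
    have h2 : finrank (ResidueField (A ⧸ I)) (CotangentSpace (A ⧸ I)) ≤ 1 := by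
      refine finrank_le_one ((maximalIdeal (A ⧸ I)).toCotangent ⟨π P, (mem_max_iff hf).mpr hP.1⟩) fun w => ?_
      obtain ⟨⟨e, he⟩, rfl⟩ := Ideal.toCotangent_surjective _ w
      obtain ⟨s, hs, w, hw, hsw⟩ := Submodule.mem_sup.mp (hz he)
      obtain ⟨r, rfl⟩ := Ideal.mem_span_singleton'.mp hs
      refine ⟨residue _ r, ?_⟩
      show r • (maximalIdeal (A ⧸ I)).toCotangent _ = _
      rw [← map_smul, Ideal.toCotangent_eq]
      show r * π P - e ∈ _
      rw [← hsw, sub_add_cancel_left]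
      exact neg_mem hw
    omega
  have hdim : finrank k (tan f) = 2 := le_antisymm hle hge
  have hsurj : Function.Surjective F :=
    (LinearMap.injective_iff_surjective_of_finrank_eq_finrank (by rw [hdim, finrank_fin_fun])).mp hinj
  refine ⟨hdim, fun v hv hv0 => ?_⟩
  obtain ⟨g, hg, h, hh, hgh⟩ := Submodule.mem_sup.mp (mem_sup_of_map hf (N := 3)
    (e := a * x ^ 2 + b * x * y + c * y ^ 2) (by simpa only [map_add, map_mul, map_pow] using hrel))
  have hg' : g = a * (x * x) + b * (x * y) + c * (y * y) - h := by linear_combination hgh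
  have hh2 := of_mem_sq (Ideal.pow_le_pow_right (by norm_num : 2 ≤ 3) hh)
  refine ⟨g, hg, fun w => by
    rw [hg', map_sub, map_add, map_add, hh2.2 w]
    simp [d1_mul, hx0, hy0], ?_⟩
  have hst : d1 v x ≠ 0 ∨ d1 v y ≠ 0 := by
    by_contra hno
    push Not at hno
    have : (⟨v, hv⟩ : tan f) = 0 := hinj (by
      rw [map_zero]; funext i; fin_cases i <;> simp [F, hno.1, hno.2])
    exact hv0 (congrArg Subtype.val this)
  have hB : ∀ w, d2 v w g = d1 w x * (2 * constantCoeff a * d1 v x + constantCoeff b * d1 v y) +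
      d1 w y * (constantCoeff b * d1 v x + 2 * constantCoeff c * d1 v y) := by
    intro w
    rw [hg', map_sub, d2_eq_zero_of_mem_cube hh]
    simp [d2_mul, d1_mul, hx0, hy0]
    ring
  obtain ⟨⟨w₁, hw₁⟩, e₁⟩ := hsurj ![1, 0]
  obtain ⟨⟨w₂, hw₂⟩, e₂⟩ := hsurj ![0, 1]
  by_contra hno
  push Not at hno
  have h1 := hno w₁ hw₁
  have h2 := hno w₂ hw₂
  rw [hB, show d1 w₁ x = 1 from congrFun e₁ 0, show d1 w₁ y = 0 from congrFun e₁ 1] at h1
  rw [hB, show d1 w₂ x = 0 from congrFun e₂ 0, show d1 w₂ y = 1 from congrFun e₂ 1] at h2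
  simp only [one_mul, zero_mul, add_zero, zero_add] at h1 h2
  rcases hst with hs | ht
  · exact hd0 ((mul_eq_zero.mp (show (4 * constantCoeff a * constantCoeff c - constantCoeff b ^ 2) * d1 v x = 0 by
      linear_combination 2 * constantCoeff c * h1 - constantCoeff b * h2)).resolve_right hs)
  · exact hd0 ((mul_eq_zero.mp (show (4 * constantCoeff a * constantCoeff c - constantCoeff b ^ 2) * d1 v y = 0 by
      linear_combination 2 * constantCoeff a * h2 - constantCoeff b * h1)).resolve_right ht)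

end Groth.Agent.JacNode
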